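import Cfsg.Agent.TAB.Sm1.Td
import Cfsg.Agent.TAB.Sm1.Tool
import Cfsg.Agent.SP.NJ3.L16
import Cfsg.Agent.H306.SD.JDeg
import Cfsg.Agent.H514.QS.J3Row
import Cfsg.Agent.H469.S8.J3Nt
import Cfsg.Agent.H300.OuterJThree
import Cfsg.Agent.H456.Rec.J3
import Cfsg.Agent.H47.Wk.J3
import Cfsg.Agent.CpAutON.Gen

/-!
# `J₃` : what VAN, ODD, GAL and KZ need (helper19, TAB)
-/

set_option autoImplicit false
set_option maxHeartbeats 400000

namespace Cfsg.Agent.TAB.J3

open Cfsg Cfsg.Spor Subgroup Cfsg.Agent.TAB.Use Cfsg.Agent.TAB.Sm1 Cfsg.Agent.Characters Cfsg.Agent.ODD.Red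
open Cfsg.Agent.H306.SD.J (degs card_dg finite_of index_inn)
open Cfsg.Agent.H296.JT (cn5)

universe u

section

variable {K : Type u} [Group K]

theorem card_eq (h : IsoJ3 K) : Nat.card K = 50232960 := (H898.J3Cent.base h).2.1

theorem deg (h : IsoJ3 K) : DegList K degs := by
  have := finite_of h
  have := Core.finite_irr (G := K)
  have := Fintype.ofFinite (IrrCharacter K)
  exact degList_of_cnt fun m => card_dg h m

theorem exists_ord (h : IsoJ3 K) {p : ℕ} (hp : p.Prime) (hd : p ∣ 50232960) : ∃ x : K, orderOf x = p := by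
  have := finite_of h
  have := Fact.mk hp
  exact exists_prime_orderOf_dvd_card' p (card_eq h ▸ hd)

theorem dz (h : IsoJ3 K) {ψ : K → ℂ} (hψ : IsIrrCharacter K ψ) {d : ℕ} (hd : ψ 1 = d) {x : K} {p e : ℕ}
    (hp : (p = 3 ∧ e = 5) ∨ (p = 5 ∧ e = 1) ∨ (p = 17 ∧ e = 1)) (h1 : p ^ e ∣ d) (h2 : p ∣ orderOf x) : ψ x = 0 := by
  have := finite_of h
  rcases hp with ⟨rfl, rfl⟩ | ⟨rfl, rfl⟩ | ⟨rfl, rfl⟩ <;>
    exact zero_of_dz hψ hd (by norm_num) (by rw [card_eq h]; norm_num) (by rw [card_eq h]; norm_num) h1 h2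

theorem van (h : IsoJ3 K) : VAN.Van3 K := by
  have := finite_of h
  obtain ⟨χ, hE⟩ := deg h
  obtain ⟨x, hx⟩ := exists_ord h (p := 5) (by norm_num) (by norm_num)
  obtain ⟨y, hy⟩ := exists_ord h (p := 17) (by norm_num) (by norm_num)
  obtain ⟨t, D, hD, -⟩ := H417.JThreeCols.exists_coded_iso h
  have h1 : orderOf (J3Type.CharOrder.y t D 4) = 8 := J3Type.CharOrder.ord_y hD 4
  have h2 : _ = 8 := J3Type.CharOrder.cc_y hD (j := 26163) (card_eq h) 4
  refine van_of_enum hE x y (J3Type.CharOrder.y t D 4) fun j hj => ?_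
  have h3 : ∀ j < degs.length, j = 0 ∨ (degs.getD j 0 ≠ 1 ∧
      (5 ^ 1 ∣ degs.getD j 0 ∨ 17 ^ 1 ∣ degs.getD j 0 ∨ degs.getD j 0 % 2 = 0)) := by decide +kernel
  refine (h3 j hj).imp_right fun h4 => ⟨h4.1, h4.2.imp (fun h5 => ?_) (Or.imp (fun h5 => ?_) fun h5 => ?_)⟩
  · exact dz h (hE.irr j hj) (hE.deg j hj) (by simp) h5 hx.symm.dvd
  · exact dz h (hE.irr j hj) (hE.deg j hj) (by simp) h5 hy.symm.dvd
  · refine zero_of_even hE (a := 3) (by rw [← orderOf_dvd_iff_pow_eq_one, h1]; rfl) (fun m hm => ?_)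
      (h2.trans_le (by decide +kernel)) hj h5
    exact H514.QS.even_conj h (n := 8) (by simp) h1
      (((hm.coprime_dvd_right (orderOf_dvd_natCard _)).symm.orderOf_pow).trans h1)

theorem moved (h : IsoJ3 K) : OddMoved K := by
  have := finite_of h
  obtain ⟨χ, hE⟩ := deg h
  obtain ⟨x, hx⟩ := exists_ord h (p := 19) (by norm_num) (by norm_num)
  have hj : 1 < degs.length := by decide
  refine ⟨χ 1, hE.irr _ hj, by rw [hE.charDegree_eq hj]; decide, fun σ hσ => ?_⟩
  refine Sz.not_fix_sig (hE.irr _ hj) (d := 85) (p := 19) (c := 19) (hE.deg _ hj) (by norm_num) (by decide)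
    (by decide +kernel) hx (H898.J3Cent.card_nineteen h hx).le (fun z hz => ?_) hσ
  have h2 : -5 < z := by by_contra h; push_cast at hz; nlinarith
  have h3 : z < 5 := by by_contra h; push_cast at hz; nlinarith
  push_cast
  omega

theorem exists_pow {G : Type*} [Group G] [Finite G] {x y : G} (h : y ∈ zpowers x) : ∃ i < orderOf x, x ^ i = y := by
  obtain ⟨i, hi⟩ := mem_powers_iff_mem_zpowers.2 h
  exact ⟨i % orderOf x, Nat.mod_lt _ (orderOf_pos x), by rw [pow_mod_orderOf]; exact hi⟩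

theorem two19 (h : IsoJ3 K) {x y : K} (hx : orderOf x = 19) (hy : orderOf y = 19) :
    IsConj x y ∨ IsConj (x ^ 2) y := by
  have := finite_of h
  have := Fact.mk (show Nat.Prime 19 by norm_num)
  obtain ⟨g, hg⟩ := CpAutON.Gen.conj_into (p := 19) (by rw [card_eq h]; norm_num) hy hx
  obtain ⟨i, hi, h1⟩ := exists_pow hg
  have h2 : IsConj (x ^ i) y := (isConj_iff.2 ⟨g, h1.symm⟩).symm
  have h3 : ∀ m, IsConj x (x ^ 4 ^ m) := fun m => by
    induction m with
    | zero => rw [pow_zero, pow_one]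
    | succ m ih =>
      rw [pow_succ, pow_mul]
      exact (H469.S8.conj_four h hx).trans (ih.pow 4)
  have h4 : ∀ i < 19, i = 0 ∨ ∃ m < 9, 4 ^ m % 19 = i ∨ 4 ^ m * 2 % 19 = i := by decide +kernel
  rw [hx] at hi
  rcases h4 i hi with rfl | ⟨m, -, rfl | rfl⟩
  · rw [← order_conj h2, pow_zero, orderOf_one] at hy
    omega
  · rw [← hx, pow_mod_orderOf] at h2
    exact Or.inl ((h3 m).trans h2)
  · rw [← hx, pow_mod_orderOf, pow_mul] at h2
    exact Or.inr (((h3 m).pow 2).trans h2)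

end

variable {K : Type} [Group K]

theorem all0 (h : IsoJ3 K) : AllRat K := by
  have := finite_of h
  intro ψ hψ τ hτ g
  have hc := Core.isIrr_isCharacter hψ
  by_cases h4 : 4 ∣ orderOf g
  · obtain ⟨m, hm, h1⟩ := GaloisBasic.exists_pow_of_ringEquiv (G := K) τ
    obtain ⟨c, hc'⟩ := h4
    have h0 := orderOf_pos g
    have h2 := H456.Rec.J3.even_ord h (m := 2 * c) (by omega) g (by omega)
    have h3 : c ≠ 5 := by
      rintro rfl
      have h5 : orderOf (g ^ 4) = 5 := by rw [orderOf_pow' _ (by norm_num), hc']; rfl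
      have h6 := (centralizer {g ^ 4}).orderOf_dvd_natCard
        (mem_centralizer_singleton_iff.2 (Commute.self_pow g 4).eq)
      rw [(cn5 h h5).1, hc'] at h6
      omega
    have h5 : c = 1 ∨ c = 2 ∨ c = 3 := by
      have h6 : c ≤ 5 := by rcases h2 with h6 | h6 | h6 <;> have := Nat.le_of_dvd (by norm_num) h6 <;> omega
      interval_cases c <;> omega
    rw [h1 _ hc]
    exact (GaloisIrr.isConj_iff_forall_irr.1 (H514.QS.even_conj h (n := orderOf g) (by omega) rfl
      (hm.coprime_dvd_right (orderOf_dvd_natCard _)).symm.orderOf_pow) ψ hψ).symm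
  · obtain ⟨a, m, hm, ho⟩ := Nat.exists_eq_two_pow_mul_odd (orderOf_pos g).ne'
    refine Sz.two_fix_char hτ hc hm (orderOf_dvd_iff_pow_eq_one.1 ?_)
    rw [ho] at h4 ⊢
    rcases a with _ | _ | a
    · simp
    · simp
    · exact absurd (Dvd.dvd.mul_right (pow_dvd_pow 2 (by omega : 2 ≤ a + 1 + 1)) m) h4

theorem not_sq (h : IsoJ3 K) {x : K} (hx : orderOf x = 5) : ¬ IsConj x (x ^ 2) := fun h1 => by
  have := finite_of h
  obtain ⟨c, hc⟩ := isConj_iff.1 h1
  have h2 : c ∈ normalizer ((zpowers x : Subgroup K) : Set K) := by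
    refine mem_normalizer_fintype fun y hy => ?_
    obtain ⟨k, rfl⟩ := mem_zpowers_iff.1 hy
    rw [← conj_zpow, hc]
    exact zpow_mem (pow_mem (mem_zpowers x) 2) k
  have h3 : centralizer ({x} : Set K) ≤ normalizer ((zpowers x : Subgroup K) : Set K) := by
    rw [← H898.J3Cent.centralizer_zpowers]
    exact centralizer_le_normalizer _
  have h4 := SP.NJ3.relIndex_mul_card h3
  rw [(cn5 h hx).1, (cn5 h hx).2] at h4
  have h5 := mem_centralizer_singleton_iff.1 ((SP.NJ3.mul_mem_of_two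
    (S := centralizer ({x} : Set K)) (by omega) h2 h2).2 Iff.rfl)
  have h6 : x ^ 4 = x ^ 1 := by
    calc x ^ 4 = (c * x * c⁻¹) ^ 2 := by rw [hc, ← pow_mul]
      _ = c * (c * x * c⁻¹) * c⁻¹ := by rw [conj_pow, ← hc]
      _ = c * c * x * (c * c)⁻¹ := by group
      _ = x ^ 1 := by rw [h5, mul_inv_cancel_right, pow_one]
  rw [pow_eq_pow_iff_modEq, hx] at h6
  revert h6
  decide

/-- an outer automorphism moves the classes of the elements of order five -/
theorem moves (h : IsoJ3 K) {α : MulAut K} (hα : α ∉ (MulAut.conj : K →* MulAut K).range) {x : K}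
    (hx : orderOf x = 5) : ¬ IsConj x (α x) := fun h1 => by
  have := finite_of h
  have hs := (H898.J3Cent.base h).1
  obtain ⟨c, hc⟩ := isConj_iff.1 h1
  obtain ⟨β, hβ, hβx⟩ : ∃ β : MulAut K, β ∉ (MulAut.conj : K →* MulAut K).range ∧ β x = x :=
    ⟨(MulAut.conj c)⁻¹ * α, fun h2 => hα ((mul_mem_cancel_left (inv_mem (MonoidHom.mem_range.2 ⟨c, rfl⟩))).1 h2), by
      rw [MulAut.mul_apply, ← hc, MulAut.conj_inv_apply]
      group⟩
  obtain ⟨a, m, ⟨m, rfl⟩, ho⟩ := Nat.exists_eq_two_pow_mul_odd (orderOf_pos β).ne'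
  have h2 : β ^ (2 * m + 1) ∉ (MulAut.conj : K →* MulAut K).range := fun h2 => by
    rw [pow_succ, pow_mul, pow_two] at h2
    exact hβ ((mul_mem_cancel_left (pow_mem (mul_self_mem_of_index_two (index_inn h) β) m)).1 h2)
  have h3 : (β ^ (2 * m + 1)) x = x := (MulAction.stabilizer (MulAut K) x).pow_mem hβx _
  have h4 : (β ^ (2 * m + 1)) ^ 2 ^ a = 1 := by rw [← pow_mul, mul_comm, ← ho, pow_orderOf_eq_one]
  generalize β ^ (2 * m + 1) = γ at h2 h3 h4
  obtain ⟨w, hw⟩ := mul_self_mem_of_index_two (index_inn h) γ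
  have h5 : ∀ y, w * y * w⁻¹ = γ (γ y) := fun y => congrArg (fun σ : MulAut K => σ y) hw
  have h6 : w * x = x * w := by
    have h7 := h5 x
    rwa [h3, h3, mul_inv_eq_iff_eq_mul] at h7
  have h7 : w ^ 2 ^ a = 1 := by
    have h8 : w ^ 2 ^ a ∈ center K := mem_center_iff.2 fun y => by
      have h9 : (MulAut.conj (w ^ 2 ^ a) : MulAut K) = 1 := by
        rw [map_pow, hw, (Commute.refl γ).mul_pow, h4, mul_one]
      have h10 := congrArg (fun σ : MulAut K => σ y) h9
      simp only [MulAut.conj_apply, MulAut.one_apply, mul_inv_eq_iff_eq_mul] at h10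
      exact h10.symm
    rcases hs.eq_bot_or_eq_top_of_normal (center K) inferInstance with h9 | h9
    · rwa [h9, mem_bot] at h8
    · have h10 := (cn5 h hx).1
      rw [(centralizer_eq_top_iff_subset.2 (by rw [h9]; exact Set.subset_univ _) : centralizer {x} = ⊤),
        card_top, card_eq h] at h10
      omega
  have h8 := (centralizer {x}).orderOf_dvd_natCard (mem_centralizer_singleton_iff.2 h6)
  rw [(cn5 h hx).1] at h8
  obtain ⟨b, -, hb⟩ := (Nat.dvd_prime_pow Nat.prime_two).1 (orderOf_dvd_of_pow_eq_one h7)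
  rcases b with _ | _ | b
  · rw [pow_zero, orderOf_eq_one_iff] at hb
    rw [hb, map_one] at hw
    exact H300.OuterJThree.no_five h hw.symm (fun ⟨g, hg⟩ => h2 ⟨g, hg.symm⟩) h3 hx
  · obtain ⟨y, hy, hyx⟩ := H47.Wk.JThree.exists_three h hx
    have h9 := SP.NJ3.c30 h hx hy hyx (y' := γ y) (by rw [← map_pow, ← hy, pow_orderOf_eq_one, map_one])
      (by rw [← h3, ← map_mul, ← map_mul, hyx])
    obtain ⟨i, hi, h10⟩ := exists_pow h9
    have h11 := h5 y
    rw [← h10, map_pow, ← h10, ← pow_mul, ← pow_mod_orderOf y (i * i), hy] at h11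
    rw [hy] at hi
    have h12 : i ≠ 0 := by
      rintro rfl
      rw [pow_zero, eq_comm, map_eq_one_iff _ γ.injective, ← orderOf_eq_one_iff] at h10
      omega
    rw [show i * i % 3 = 1 by interval_cases i <;> omega, pow_one, mul_inv_eq_iff_eq_mul] at h11
    exact SP.NJ3.no30 h hb hy hx hyx h11 h6
  · rw [hb] at h8
    exact absurd ((pow_dvd_pow 2 (by omega : 2 ≤ b + 1 + 1)).trans h8) (by norm_num)

theorem ord_of_cent [Finite K] {g : K} {p : ℕ} (hd : p ∣ orderOf g)
    (hc : ∀ x : K, orderOf x = p → Nat.card (centralizer ({x} : Set K)) = p) : orderOf g = p := by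
  have h1 := (centralizer {g ^ (orderOf g / p)}).orderOf_dvd_natCard
    (mem_centralizer_singleton_iff.2 (Commute.self_pow g _).eq)
  rw [hc _ (orderOf_pow_orderOf_div (orderOf_pos g).ne' hd)] at h1
  exact Nat.dvd_antisymm h1 hd

theorem aut0 (h : IsoJ3 K) : OddSigAut K := by
  have := finite_of h
  obtain ⟨χ, hE⟩ := deg h
  intro ψ hψ ho hinv σ hσ
  obtain ⟨j, hj, rfl⟩ := hE.all ψ hψ
  rw [hE.charDegree_eq hj, Nat.odd_iff] at ho
  obtain ⟨α, hα⟩ := H469.S8.exists_aut h
  have hcl : ∀ {a b : K}, IsConj a b → χ j a = χ j b := fun e => GaloisIrr.isConj_iff_forall_irr.1 e _ hψ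
  have h1 : ∀ j < degs.length, degs.getD j 0 % 2 = 1 → (j = 0 ∨ j = 12) ∨
      degs.getD j 0 = 85 ∨ (j = 3 ∨ j = 4) ∨ degs.getD j 0 = 1215 := by decide +kernel
  rcases h1 j hj ho with h2 | h2 | h2 | h2
  · exact fix_of_uniq hE hj (by rcases h2 with rfl | rfl <;> decide +kernel) σ
  · exact (H469.S8.not_inv h ⟨_, hψ⟩ (Or.inl (by rw [M23Order.Base.dg, hE.charDegree_eq hj, h2])) hinv).elim
  · exfalso
    have hα' : α ∉ (MulAut.conj : K →* MulAut K).range := by
      rintro ⟨c, rfl⟩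
      obtain ⟨x, hx⟩ := exists_ord h (p := 19) (by norm_num) (by norm_num)
      exact hα x hx (isConj_iff.2 ⟨c, rfl⟩)
    have hk : Nat.Coprime 30139777 (Nat.card K) := by rw [card_eq h]; norm_num
    have h3 : ∀ g : K, ¬ 5 ∣ orderOf g → g ^ 30139777 = g := fun g hg => by
      have h4 : orderOf g ∣ 5 * 10046592 := (orderOf_dvd_natCard g).trans (card_eq h).dvd
      have h5 := orderOf_dvd_iff_pow_eq_one.1
        (((Nat.Prime.coprime_iff_not_dvd Nat.prime_five).2 hg).symm.dvd_of_dvd_mul_left h4)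
      rw [show 30139777 = 10046592 * 3 + 1 from rfl, pow_succ, pow_mul, h5, one_pow, one_mul]
    have h4 : ∀ g : K, 5 ∣ orderOf g → ¬ IsConj g (g ^ 30139777) ∧ ¬ IsConj g (α g) := fun g hg => by
      have h5 := orderOf_pow_orderOf_div (orderOf_pos g).ne' hg
      refine ⟨fun h6 => not_sq h h5 ?_, fun h6 => moves h hα' h5 ?_⟩
      · have h7 := h6.pow (orderOf g / 5)
        rwa [← pow_mul, mul_comm, pow_mul, ← pow_mod_orderOf _ 30139777, h5] at h7
      · rw [map_pow]
        exact h6.pow _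
    have ho' : ∀ a : K, orderOf (a ^ 30139777) = orderOf a := fun a =>
      (hk.coprime_dvd_right (orderOf_dvd_natCard a)).symm.orderOf_pow
    have h5 : ∀ O : List ℕ, O.Nodup → (∀ o ∈ O, o = 5 ∨ o = 10 ∨ o = 15) →
        ∃ L : List K, Mv 30139777 L ∧ L.length = 2 * O.length ∧ ∀ a ∈ L, orderOf a ∈ O := fun O hO hO' =>
      exists_mv hk (fun _ _ => order_conj) ho' O hO fun o ho => by
        obtain ⟨x, hx⟩ := exists_ord h (p := 5) (by norm_num) (by norm_num)
        obtain ⟨t, ht, htx⟩ := H715.Fpr.J3.exists_inv h hx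
        obtain ⟨y, hy, hyx⟩ := H47.Wk.JThree.exists_three h hx
        have h6 := Commute.orderOf_mul_eq_mul_orderOf_of_coprime htx (by rw [ht, hx]; norm_num)
        have h7 := Commute.orderOf_mul_eq_mul_orderOf_of_coprime hyx (by rw [hy, hx]; norm_num)
        rw [hx] at h6 h7
        rcases hO' o ho with rfl | rfl | rfl
        · exact ⟨x, hx, (h4 _ (by rw [hx])).1⟩
        · exact ⟨t * x, by rw [h6, ht], (h4 _ (by rw [h6, ht]; norm_num)).1⟩
        · exact ⟨y * x, by rw [h7, hy], (h4 _ (by rw [h7, hy]; norm_num)).1⟩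
    have h6 : ∀ i < degs.length, i ∉ [3, 4, 6, 7, 16, 17] → ∀ g, χ i (g ^ 30139777) = χ i g := fun i hi h6 g => by
      have h7 : ∀ i < degs.length, i ∉ [3, 4, 6, 7, 16, 17] → 5 ^ 1 ∣ degs.getD i 0 ∨
          ∀ l < degs.length, degs.getD l 0 = degs.getD i 0 → l = i := by decide +kernel
      rcases h7 i hi h6 with h8 | h8
      · by_cases h9 : 5 ∣ orderOf g
        · rw [dz h (hE.irr i hi) (hE.deg i hi) (by simp) h8 h9,
            dz h (hE.irr i hi) (hE.deg i hi) (by simp) h8 (by rwa [ho'])]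
        · rw [h3 g h9]
      · obtain ⟨τ, hτ⟩ := GaloisBasic.exists_ringEquiv_of_coprime hk
        rw [← hτ _ (Core.isIrr_isCharacter (hE.irr i hi)), fix_of_uniq hE hi h8 τ]
    have h7 := moved_le hk hE _ h6
    have h8 : ∀ g, χ j (g ^ 30139777) = χ j g := fun g => by
      by_cases h9 : 5 ∣ orderOf g
      · rw [← hinv α g]
        refine hcl (by_contra fun h10 => ?_)
        obtain ⟨L, h11, h12, h13⟩ := h5 ([5, 10, 15].erase (orderOf g)) (List.Nodup.erase _ (by decide))
          fun o ho => by simpa using List.mem_of_mem_erase ho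
        have h14 : Mv 30139777 [g, g ^ 30139777, α g] := ⟨by simpa only [List.pairwise_cons, List.forall_mem_cons,
          List.not_mem_nil, false_imp_iff, implies_true, List.Pairwise.nil, and_true] using ⟨h4 g h9, h10⟩,
          List.forall_mem_cons.2 ⟨(h4 g h9).1, List.forall_mem_cons.2 ⟨not_conj_pow hk (h4 g h9).1,
            List.forall_mem_singleton.2 (h4 _ (by rwa [α.orderOf_eq])).1⟩⟩⟩
        have h15 := le_moved (h14.append (f := orderOf) (fun _ _ => order_conj) h11 fun a ha b hb h15 => by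
          have h16 : orderOf a = orderOf g := by
            simp only [List.mem_cons, List.not_mem_nil, or_false] at ha
            rcases ha with rfl | rfl | rfl
            exacts [rfl, ho' g, α.orderOf_eq g]
          have h17 := h13 b hb
          rw [← h15, h16] at h17
          exact (List.Nodup.not_mem_erase (by decide)) h17)
        have h17 : 2 ≤ ([5, 10, 15].erase (orderOf g)).length := by
          rw [List.length_erase]
          split_ifs <;> decide
        simp only [List.length_append, List.length_cons, List.length_nil] at h7 h15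
        omega
      · rw [h3 g h9]
    obtain ⟨L, h9, h10, -⟩ := h5 [5, 10, 15] (by decide) (by simp)
    have h11 := le_moved h9
    have h12 := moved_le hk hE [7 - j, 6, 7, 16, 17] fun i hi h12 => by
      by_cases h13 : i = j
      · rwa [h13]
      · refine h6 i hi ?_
        simp only [List.mem_cons, List.not_mem_nil, or_false] at h12 ⊢
        omega
    simp only [List.length_cons, List.length_nil] at h10 h12
    omega
  · obtain ⟨k, hk, h4, h5, h6⟩ := exists_kap K
    have h3 : ∀ j < degs.length, degs.getD j 0 = 1215 → ∀ i < degs.length, degs.getD i 0 = degs.getD j 0 →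
      i = j ∨ i = 21 - j := by decide +kernel
    intro g
    have ho' : orderOf (g ^ k) = orderOf g := (hk.coprime_dvd_right (orderOf_dvd_natCard g)).symm.orderOf_pow
    have hd := hE.deg j hj
    rw [h6 σ hσ _ (Core.isIrr_isCharacter hψ)]
    by_cases h7 : 3 ∣ orderOf g
    · rw [dz h hψ hd (p := 3) (e := 5) (by simp) (by rw [h2]; norm_num) h7,
        dz h hψ hd (p := 3) (e := 5) (by simp) (by rw [h2]; norm_num) (by rwa [ho'])]
    by_cases h8 : 5 ∣ orderOf g
    · rw [dz h hψ hd (p := 5) (e := 1) (by simp) (by rw [h2]; norm_num) h8,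
        dz h hψ hd (p := 5) (e := 1) (by simp) (by rw [h2]; norm_num) (by rwa [ho'])]
    by_cases h9 : 17 ∣ orderOf g
    · have h10 := ord_of_cent h9 fun x hx => (H898.J3Cent.seventeen h hx).1
      rw [h4 g (by rw [h10]; decide), ← fix_sq hE hj (h3 j hj h2) (m := 11) (by rw [card_eq h]; norm_num) g,
        ← pow_mod_orderOf g (11 * 11), h10]
    by_cases h10 : 19 ∣ orderOf g
    · have h11 := ord_of_cent h10 fun x hx => H898.J3Cent.card_nineteen h hx
      rw [h4 g (by rw [h11]; decide), ← hinv α g]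
      exact hcl ((two19 h h11 ((α.orderOf_eq g).trans h11)).resolve_left (hα g h11))
    have h11 : orderOf g ∣ 2 ^ 7 * 3 ^ 5 * 5 * 17 * 19 := (orderOf_dvd_natCard g).trans (card_eq h).dvd
    have hp : ∀ {p : ℕ}, p.Prime → ¬ p ∣ orderOf g → (orderOf g).Coprime p := fun hp h =>
      ((Nat.Prime.coprime_iff_not_dvd hp).2 h).symm
    rw [h5 g 7 (orderOf_dvd_iff_pow_eq_one.1 (((hp (by norm_num) h7).pow_right 5).dvd_of_dvd_mul_right
      ((hp (by norm_num) h8).dvd_of_dvd_mul_right ((hp (by norm_num) h9).dvd_of_dvd_mul_right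
        ((hp (by norm_num) h10).dvd_of_dvd_mul_right h11)))))]

theorem odd {K : Type u} [Group K] (h : IsoJ3 K) : AllRat K := by
  obtain ⟨F, _, _, ω, hF, hω, ⟨e⟩⟩ := h
  exact allRat_of e.symm (all0 (H55.JThree.isoJ3 hF hω))

theorem sig {K : Type u} [Group K] (h : IsoJ3 K) : OddMoved K ∧ OddSigAut K := by
  refine ⟨moved h, ?_⟩
  obtain ⟨F, _, _, ω, hF, hω, ⟨e⟩⟩ := h
  exact oddSigAut_of e.symm (aut0 (H55.JThree.isoJ3 hF hω))

end Cfsg.Agent.TAB.J3
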